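/-
The kernel functions checked for the automorphisms of Fi22.
-/
import Cfsg.Agent.Lib.CosetEnum.AutCent
import Cfsg.Agent.Lib.CosetEnum.Fi3510.Data
import Cfsg.Agent.Lib.CosetEnum.Fi22Aut.Data
import Cfsg.Agent.Lib.CosetEnum.PresFi22

set_option autoImplicit false
set_option maxRecDepth 1000000

namespace CfsgLib.CosetEnum.Fi22Aut

/-- The permutation of the element of order 11. -/
noncomputable def xf (d : ℕ) : ℕ := entry xt (nat_lit 64) (nat_lit 20) d

/-- The permutation of the transposition at the base point. -/
noncomputable def zf (d : ℕ) : ℕ := Fi3510.table.act 9 d 0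

/-- The permutation of the diagram automorphism. -/
noncomputable def phi (d : ℕ) : ℕ := entry phit (nat_lit 64) (nat_lit 20) d

/-- The diagram automorphism on the generators. -/
def sw (x : ℕ) : ℕ := ([6, 5, 4, 3, 2, 1, 0, 7, 8] : List ℕ).getD x 9

/-- The check at a point of the element of order 11. -/
noncomputable def fX (d : ℕ) : Bool := okXPoint Fi3510.table 9 xw xf zf 11 [0] d

/-- The check at a point of the reduction. -/
noncomputable def fR (d : ℕ) : Bool := okReach Fi3510.table 9 xf zf reach reps pt ptw d

/-- The check at a point of the diagram automorphism. -/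
noncomputable def fJ (d : ℕ) : Bool :=
  Nat.beq (phi (phi d)) d && Nat.blt (phi d) 3510 &&
    allN 9 (fun x' => force x' fun x => Nat.beq (phi (Fi3510.table.act 9 d x)) (Fi3510.table.act 9 (phi d) (sw x))) &&
    presFi22.rels.all (fun w => Nat.beq (runT Fi3510.table 9 (w.map sw).reverse d) d) &&
    (!(Fi3510.hwR.all fun w => Nat.beq (runT Fi3510.table 9 w d) d) || Nat.beq d 0)

end CfsgLib.CosetEnum.Fi22Aut
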