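/-
Checks of the automorphism certificate of Fi22 on a range of points.
-/
import Cfsg.Agent.Lib.CosetEnum.AutCent
import Cfsg.Agent.Lib.CosetEnum.Fi3510.Data
import Cfsg.Agent.Lib.CosetEnum.Fi22Aut.Data
import Cfsg.Agent.Lib.CosetEnum.PresFi22
import Cfsg.Agent.Lib.CosetEnum.Fi22Aut.Fun

set_option autoImplicit false
set_option maxRecDepth 1000000

namespace CfsgLib.CosetEnum.Fi22Aut

theorem x1_ok : okRange fX 1200 1200 = true := by decide +kernel

theorem r1_ok : okRange fR 1200 1200 = true := by decide +kernel

theorem j1_ok : okRange fJ 1200 1200 = true := by decide +kernel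

end CfsgLib.CosetEnum.Fi22Aut
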