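/-
The checks of the automorphism certificate of Fi22 at every point.
-/
import Cfsg.Agent.Lib.CosetEnum.Fi22Aut.Check0
import Cfsg.Agent.Lib.CosetEnum.Fi22Aut.Check1
import Cfsg.Agent.Lib.CosetEnum.Fi22Aut.Check2

set_option autoImplicit false

namespace CfsgLib.CosetEnum.Fi22Aut

theorem x_ok : ∀ d < 3510, fX d = true :=
  (okRange_sound x2_ok (okRange_sound x1_ok (okRange_sound x0_ok (fun d hd => absurd hd (Nat.not_lt_zero d)))))

theorem r_ok : ∀ d < 3510, fR d = true :=
  (okRange_sound r2_ok (okRange_sound r1_ok (okRange_sound r0_ok (fun d hd => absurd hd (Nat.not_lt_zero d)))))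

theorem j_ok : ∀ d < 3510, fJ d = true :=
  (okRange_sound j2_ok (okRange_sound j1_ok (okRange_sound j0_ok (fun d hd => absurd hd (Nat.not_lt_zero d)))))

end CfsgLib.CosetEnum.Fi22Aut
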