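/-
The outer automorphism group of the presented Fi22 has order 2.
-/
import Cfsg.Agent.Lib.CosetEnum.Fi22Class.Main
import Cfsg.Agent.Lib.CosetEnum.AutCount
import Cfsg.Agent.Lib.CosetEnum.Fi22Aut.Checks
import Cfsg.Agent.S1696
import Cfsg.Prelude.Def_KGroupFacts

set_option autoImplicit false
set_option maxRecDepth 1000000

namespace CfsgLib.CosetEnum.Fi22Aut

open Cfsg CfsgLib.CosetEnum

theorem hid : ∀ i < presFi22.k, presFi22.idx (presFi22.gen i) = i := by decide

theorem hinj : Function.Injective (Fi3510.cert.hom Fi3510.hlt) := by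
  haveI : Finite presFi22.Grp := Cfsg.Agent.S1696.upper.1
  exact Fi3510.cert.hom_injective Fi3510.hlt (Fi3510.cert.card_le_of_fixSub Fi3510.hlt
    (Cfsg.Agent.S1696.lower (Fi3510.cert.ker_le_fixSub Fi3510.hlt _))) Cfsg.Agent.S1696.upper.2

/-- The transposition at the base point. -/
noncomputable def tz : presFi22.Grp := (([0] : List ℕ).map presFi22.σ).prod

/-- The element of order 11. -/
noncomputable def xe : presFi22.Grp := (xw.reverse.map presFi22.σ).prod

theorem card_grp : Nat.card presFi22.Grp = 64561751654400 := Cfsg.Agent.S1696.result.2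

theorem stabIsCent : Fi3510.cert.StabIsCent Fi3510.hlt tz := by
  haveI : Finite presFi22.Grp := Cfsg.Agent.S1696.upper.1
  haveI : IsSimpleGroup presFi22.Grp := Cfsg.Agent.S1696.result.1
  exact Fi3510.cert.stabIsCent_of_centralizer Fi3510.hlt hid Fi3510.hhw (Fi22Class.point_class hinj).1

theorem ext_of_points {a b : presFi22.Grp}
    (h : ∀ d, (Fi3510.cert.hom Fi3510.hlt a d : ℕ) = Fi3510.cert.hom Fi3510.hlt b d) : a = b :=
  hinj (Equiv.ext fun d => Fin.ext (h d))

theorem zw_lt : ∀ x ∈ ([0] : List ℕ), x < presFi22.k := by decide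

theorem xw_lt : ∀ x ∈ xw, x < presFi22.k := by decide

theorem real_t : Fi3510.cert.Realises Fi3510.hlt tz zf := fun d =>
  (Fi3510.cert.hom_word_run' Fi3510.hlt hid _ zw_lt d).trans (Fi22Class.zf_spec d d.2)

theorem x_spec (d : ℕ) (hd : d < 3510) : runT Fi3510.table 9 xw d = xf d ∧ iterN xf 11 d = d ∧
    xf (zf d) = zf (xf d) ∧ (xf d = d → d = 0) := by
  have h := x_ok d hd
  simp only [fX, okXPoint, force_eq, Bool.and_eq_true] at h
  refine ⟨Nat.eq_of_beq_eq_true h.1.1, Nat.eq_of_beq_eq_true h.1.2, Nat.eq_of_beq_eq_true h.2.1, fun e => ?_⟩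
  have h' := h.2.2
  rw [e, show Nat.beq d d = true from Nat.beq_refl d] at h'
  simp only [List.any_cons, List.any_nil, Bool.or_false] at h'
  exact (Nat.eq_of_beq_eq_true h').symm

theorem real_x : Fi3510.cert.Realises Fi3510.hlt xe xf := fun d =>
  (Fi3510.cert.hom_rev Fi3510.hlt hid xw xw_lt d).trans (x_spec d d.2).1

theorem t_sq : tz * tz = 1 := ext_of_points fun d => by
  rw [map_mul, Equiv.Perm.mul_apply, real_t, real_t, map_one, Equiv.Perm.one_apply]
  have h := Fi22Class.class_ok d d.2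
  simp only [okClassPoint, force_eq, Bool.and_eq_true] at h
  exact Nat.eq_of_beq_eq_true h.1.1

theorem x_pow : xe ^ 11 = 1 := ext_of_points fun d => by
  rw [Cert.realises_pow _ _ real_x, map_one, Equiv.Perm.one_apply]
  exact (x_spec d d.2).2.1

theorem x_t : xe * tz = tz * xe := ext_of_points fun d => by
  rw [map_mul, Equiv.Perm.mul_apply, real_x, real_t, map_mul, Equiv.Perm.mul_apply, real_t, real_x]
  exact (x_spec d d.2).2.2.1

theorem x_moves : xf pt ≠ pt := Nat.ne_of_beq_eq_false (by decide +kernel)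

theorem pt_lt : pt < 3510 := by decide

theorem x_ne : xe ≠ 1 := fun e => x_moves <| by
  have h := real_x ⟨pt, pt_lt⟩
  rw [e, map_one, Equiv.Perm.one_apply] at h
  exact h.symm

theorem x_order : orderOf xe = 11 := by
  haveI : Fact (Nat.Prime 11) := ⟨by norm_num⟩
  exact orderOf_eq_prime x_pow x_ne

theorem t_ne : tz ≠ 1 := by
  intro e
  obtain ⟨d, hd, hne⟩ := Fi22Class.moved.1
  apply hne
  have hg : ∀ x ∈ Fi22Class.g, x < presFi22.k := by decide
  have h := Fi3510.cert.realises_conj Fi3510.hlt hid real_t Fi22Class.g hg ⟨d, hd⟩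
  rw [e, mul_one, mul_inv_cancel, ← e, real_t ⟨d, hd⟩] at h
  exact h.symm

/-! ### The points of the generators -/

/-- The point of a generator. -/
def qOf (x : ℕ) : ℕ := genPts.getD x 0

theorem qOf_lt : ∀ x < 9, qOf x < 3510 := by decide

theorem pt_zero : Fi3510.cert.IsPt Fi3510.hlt tz (presFi22.σ 0) ⟨qOf 0, qOf_lt 0 (by norm_num)⟩ := by
  have e : tz = presFi22.σ 0 := by simp [tz]
  have h := Fi3510.cert.isPt_base Fi3510.hlt (t := tz)
  nth_rewrite 2 [e] at h
  exact h

theorem braid {x y : ℕ} (hm : coxWord x y 3 ∈ presFi22.rels) :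
    presFi22.σ x * presFi22.σ y * presFi22.σ x = presFi22.σ y * presFi22.σ x * presFi22.σ y := by
  have h := presFi22.rels_one hm
  rw [prod_coxWord] at h
  have ix := inv_eq_of_mul_eq_one_right (presFi22.σ_sq x)
  have iy := inv_eq_of_mul_eq_one_right (presFi22.σ_sq y)
  have h' : presFi22.σ x * presFi22.σ y * presFi22.σ x * (presFi22.σ y * presFi22.σ x * presFi22.σ y) = 1 := by
    rw [← h]; simp only [pow_succ, pow_zero, one_mul, mul_assoc]
  rw [eq_inv_of_mul_eq_one_left h', mul_inv_rev, mul_inv_rev, ix, iy, mul_assoc]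

theorem braid' {x y : ℕ} (hm : coxWord x y 3 ∈ presFi22.rels ∨ coxWord y x 3 ∈ presFi22.rels) :
    presFi22.σ x * presFi22.σ y * presFi22.σ x = presFi22.σ y * presFi22.σ x * presFi22.σ y := by
  rcases hm with h | h
  · exact braid h
  · exact (braid h).symm

theorem pt_step {x y : ℕ} (hx : x < 9) (hy : y < 9)
    (h : Fi3510.cert.IsPt Fi3510.hlt tz (presFi22.σ x) ⟨qOf x, qOf_lt x hx⟩)
    (hm : coxWord x y 3 ∈ presFi22.rels ∨ coxWord y x 3 ∈ presFi22.rels)
    (hr : Nat.beq (runT Fi3510.table 9 [y, x] (qOf x)) (qOf y) = true) :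
    Fi3510.cert.IsPt Fi3510.hlt tz (presFi22.σ y) ⟨qOf y, qOf_lt y hy⟩ :=
  Fi3510.cert.isPt_braid Fi3510.hlt hid (x := x) (y := y) hx hy (braid' hm) h (Nat.eq_of_beq_eq_true hr)

theorem edge_rels : ∀ e ∈ ([(0, 1), (1, 2), (2, 3), (3, 4), (4, 5), (5, 6), (3, 7), (7, 8)] : List (ℕ × ℕ)),
    coxWord e.1 e.2 3 ∈ presFi22.rels ∨ coxWord e.2 e.1 3 ∈ presFi22.rels := by
  rw [Fi3510.rels_eq]; decide +kernel

theorem pt_gen : ∀ x, ∀ hx : x < 9, Fi3510.cert.IsPt Fi3510.hlt tz (presFi22.σ x) ⟨qOf x, qOf_lt x hx⟩ := by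
  have p0 := pt_zero
  have p1 := pt_step (x := 0) (y := 1) (by norm_num) (by norm_num) p0 (edge_rels (0, 1) (by decide)) (by decide +kernel)
  have p2 := pt_step (x := 1) (y := 2) (by norm_num) (by norm_num) p1 (edge_rels (1, 2) (by decide)) (by decide +kernel)
  have p3 := pt_step (x := 2) (y := 3) (by norm_num) (by norm_num) p2 (edge_rels (2, 3) (by decide)) (by decide +kernel)
  have p4 := pt_step (x := 3) (y := 4) (by norm_num) (by norm_num) p3 (edge_rels (3, 4) (by decide)) (by decide +kernel)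
  have p5 := pt_step (x := 4) (y := 5) (by norm_num) (by norm_num) p4 (edge_rels (4, 5) (by decide)) (by decide +kernel)
  have p6 := pt_step (x := 5) (y := 6) (by norm_num) (by norm_num) p5 (edge_rels (5, 6) (by decide)) (by decide +kernel)
  have p7 := pt_step (x := 3) (y := 7) (by norm_num) (by norm_num) p3 (edge_rels (3, 7) (by decide)) (by decide +kernel)
  have p8 := pt_step (x := 7) (y := 8) (by norm_num) (by norm_num) p7 (edge_rels (7, 8) (by decide)) (by decide +kernel)
  intro x hx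
  interval_cases x <;> assumption

/-- The configuration. -/
def conf : List (ℕ × ℕ) := ord.map fun x => (x, qOf x)

theorem conf_mem {a : ℕ × ℕ} (ha : a ∈ conf) : ∃ x, x < 9 ∧ a = (x, qOf x) := by
  obtain ⟨x, hx, rfl⟩ := List.mem_map.mp ha
  exact ⟨x, (show ∀ x ∈ ord, x < 9 by decide) x hx, rfl⟩

theorem config : Fi3510.cert.Config Fi3510.hlt tz conf where
  lt a ha := by obtain ⟨x, hx, rfl⟩ := conf_mem ha; exact ⟨hx, qOf_lt x hx⟩
  pt a ha := by obtain ⟨x, hx, rfl⟩ := conf_mem ha; exact pt_gen x hx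
  nodup := by decide

theorem conf_all : ∀ x < 9, (x, qOf x) ∈ conf := by decide

theorem central_one {g : presFi22.Grp} (h : ∀ a ∈ conf, g * presFi22.σ a.1 = presFi22.σ a.1 * g) : g = 1 := by
  haveI : IsSimpleGroup presFi22.Grp := Cfsg.Agent.S1696.result.1
  have hc : g ∈ Subgroup.center presFi22.Grp := by
    rw [Subgroup.mem_center_iff]
    intro y
    have : Subgroup.closure (presFi22.σ '' Set.Iio presFi22.k) ≤ Subgroup.centralizer ({g} : Set presFi22.Grp) := by
      rw [Subgroup.closure_le]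
      rintro _ ⟨x, hx, rfl⟩
      exact Subgroup.mem_centralizer_singleton_iff.mpr (h _ (conf_all x hx)).symm
    rw [presFi22.gen_closure] at this
    exact Subgroup.mem_centralizer_singleton_iff.mp (this (Subgroup.mem_top y))
  rcases (inferInstance : (Subgroup.center presFi22.Grp).Normal).eq_bot_or_eq_top with hb | ht
  · rwa [hb, Subgroup.mem_bot] at hc
  exfalso
  have hmem : tz ∈ Subgroup.center presFi22.Grp := by rw [ht]; trivial
  obtain ⟨d, hd, hne⟩ := Fi22Class.moved.1
  apply hne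
  have hg : ∀ x ∈ Fi22Class.g, x < presFi22.k := by decide
  have hh := Fi3510.cert.realises_conj Fi3510.hlt hid real_t Fi22Class.g hg ⟨d, hd⟩
  rw [Subgroup.mem_center_iff.mp hmem, mul_inv_cancel_right, real_t ⟨d, hd⟩] at hh
  exact hh.symm

theorem autFix_bot : Cert.autFix (P := presFi22) conf = ⊥ := by
  rw [eq_bot_iff]
  intro α hα
  refine Subgroup.mem_bot.mpr (MulEquiv.toMonoidHom_injective (MonoidHom.eq_of_eqOn_dense presFi22.gen_closure ?_))
  rintro _ ⟨x, hx, rfl⟩
  exact hα _ (conf_all x hx)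

theorem counts_ok : okCounts Fi3510.table 9 [] conf cnts = true := by decide +kernel

theorem steps_ok : okDerive Fi3510.table 9 xf Fi22Class.zf [0, pt] steps (conf.map Prod.snd) = true := by
  decide +kernel

theorem ptw_ok : runT Fi3510.table 9 ptw.reverse 0 = pt := Nat.eq_of_beq_eq_true (by decide +kernel)

theorem invol_eq (s : presFi22.Grp) (hs2 : s * s = 1) (hs1 : s ≠ 1) (hsx : s * xe = xe * s) :
    s ∈ conjugatesOf tz := by
  rw [Fi3510.cert.invol_cent_eq Fi3510.hlt hid stabIsCent real_x x_t t_sq (q := 11) (by decide) x_pow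
    (fun g hgt hgx => Fi3510.cert.cent_eq Fi3510.hlt hid stabIsCent real_t real_x x_t reach reps
      (p := ⟨pt, pt_lt⟩) ptw (by decide) ptw_ok x_moves r_ok steps config steps_ok (fun g h => central_one h) hgt hgx)
    (fun d hd => (x_spec d d.2).2.2.2 hd) hs2 hs1 hsx]
  exact mem_conjugatesOf_self

theorem aut_mem (α : MulAut presFi22.Grp) : α tz ∈ conjugatesOf tz := by
  haveI : Finite presFi22.Grp := Cfsg.Agent.S1696.upper.1
  haveI : Fact (Nat.Prime 11) := ⟨by norm_num⟩
  exact Cert.aut_mem (q := 11) x_order (by rw [card_grp]; decide +kernel) x_t t_sq t_ne invol_eq α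

theorem card_aut_le : Nat.card (MulAut presFi22.Grp) ≤ 2 * 64561751654400 := by
  haveI : Finite presFi22.Grp := Cfsg.Agent.S1696.upper.1
  have h := Fi3510.cert.autFix_card_le Fi3510.hlt hid stabIsCent aut_mem config autFix_bot conf [] cnts rfl counts_ok
  have e : Cert.autFix (P := presFi22) [] = ⊤ := by rw [eq_top_iff]; intro α _ a ha; simp at ha
  rw [e, Subgroup.card_top] at h
  exact h.trans (le_of_eq (by decide +kernel))

/-! ### The diagram automorphism -/

theorem sw_lt : ∀ x < 9, sw x < 9 := by decide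

theorem sw_sw : ∀ x < 9, sw (sw x) = x := by decide

theorem j_spec (d : ℕ) (hd : d < 3510) : phi (phi d) = d ∧ phi d < 3510 ∧
    (∀ x < 9, phi (Fi3510.table.act 9 d x) = Fi3510.table.act 9 (phi d) (sw x)) ∧
    (∀ w ∈ presFi22.rels, runT Fi3510.table 9 (w.map sw).reverse d = d) ∧
    ((∀ w ∈ Fi3510.hwR, runT Fi3510.table 9 w d = d) → d = 0) := by
  have h := j_ok d hd
  simp only [fJ, Bool.and_eq_true, List.all_eq_true, Bool.or_eq_true, blt_iff] at h
  obtain ⟨⟨⟨⟨h1, h2⟩, h3⟩, h4⟩, h5⟩ := h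
  refine ⟨Nat.eq_of_beq_eq_true h1, h2, fun x hx => ?_, fun w hw => Nat.eq_of_beq_eq_true (h4 w hw), fun hall => ?_⟩
  · have := allN_spec h3 x hx
    rw [force_eq] at this
    exact Nat.eq_of_beq_eq_true this
  · rcases h5 with h5 | h5
    · rw [Bool.not_eq_true'] at h5
      rw [List.all_eq_false] at h5
      obtain ⟨w, hw, hne⟩ := h5
      exact absurd (by rw [hall w hw]; exact Nat.beq_refl d) hne
    · exact Nat.eq_of_beq_eq_true h5

/-- The images of the generators. -/
noncomputable def τ (x : ℕ) : presFi22.Grp := presFi22.σ (sw x)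

theorem τ_sq (x : ℕ) : τ x * τ x = 1 := presFi22.σ_sq _

theorem rels_lt9 : ∀ w ∈ presFi22.rels, ∀ x ∈ w.map sw, x < presFi22.k := by
  intro w hw x hx
  obtain ⟨y, hy, rfl⟩ := List.mem_map.mp hx
  exact sw_lt y (Fi3510.hlt w hw y hy)

theorem τ_rels : ∀ w ∈ presFi22.rels, (w.map τ).prod = 1 := by
  intro w hw
  refine ext_of_points fun d => ?_
  rw [show w.map τ = (w.map sw).map presFi22.σ by rw [List.map_map]; rfl,
    Fi3510.cert.hom_word_run' Fi3510.hlt hid _ (rels_lt9 w hw) d, map_one, Equiv.Perm.one_apply]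
  exact (j_spec d d.2).2.2.2.1 w hw

/-- The diagram automorphism as an endomorphism. -/
noncomputable def θ : presFi22.Grp →* presFi22.Grp :=
  PresentedGroup.toGroup (presFi22.lift_rel τ_sq τ_rels)

theorem θ_σ {x : ℕ} (hx : x < 9) : θ (presFi22.σ x) = presFi22.σ (sw x) := by
  have hs : presFi22.σ x = PresentedGroup.of (presFi22.gen x) := if_pos hx
  rw [hs, θ, PresentedGroup.toGroup.of, Function.comp_apply, hid x hx, τ]

theorem θ_θ (g : presFi22.Grp) : θ (θ g) = g := by
  have : θ.comp θ = MonoidHom.id presFi22.Grp := by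
    refine MonoidHom.eq_of_eqOn_dense presFi22.gen_closure ?_
    rintro _ ⟨x, hx, rfl⟩
    rw [MonoidHom.comp_apply, θ_σ hx, θ_σ (sw_lt x hx), sw_sw x hx, MonoidHom.id_apply]
  exact DFunLike.congr_fun this g

/-- The diagram automorphism. -/
noncomputable def θA : MulAut presFi22.Grp :=
  { toFun := θ, invFun := θ, left_inv := θ_θ, right_inv := θ_θ, map_mul' := map_mul θ }

/-- Its permutation of the points. -/
noncomputable def φ : Equiv.Perm (Fin Fi3510.cert.T.n) where
  toFun d := ⟨phi d, (j_spec d d.2).2.1⟩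
  invFun d := ⟨phi d, (j_spec d d.2).2.1⟩
  left_inv d := Fin.ext (j_spec d d.2).1
  right_inv d := Fin.ext (j_spec d d.2).1

theorem φ_hom (y : presFi22.Grp) : φ * Fi3510.cert.hom Fi3510.hlt y = Fi3510.cert.hom Fi3510.hlt (θ y) * φ := by
  let f : presFi22.Grp →* Equiv.Perm (Fin Fi3510.cert.T.n) :=
    (MulAut.conj φ).toMonoidHom.comp (Fi3510.cert.hom Fi3510.hlt)
  have key : f = (Fi3510.cert.hom Fi3510.hlt).comp θ := by
    refine MonoidHom.eq_of_eqOn_dense presFi22.gen_closure ?_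
    rintro _ ⟨x, hx, rfl⟩
    show φ * Fi3510.cert.hom Fi3510.hlt (presFi22.σ x) * φ⁻¹ = Fi3510.cert.hom Fi3510.hlt (θ (presFi22.σ x))
    rw [θ_σ hx, mul_inv_eq_iff_eq_mul]
    ext d
    rw [Equiv.Perm.mul_apply, Equiv.Perm.mul_apply, Fi3510.cert.hom_act Fi3510.hlt hid (sw_lt x hx)]
    show phi (Fi3510.cert.hom Fi3510.hlt (presFi22.σ x) d : ℕ) = Fi3510.table.act 9 (phi d) (sw x)
    rw [Fi3510.cert.hom_act Fi3510.hlt hid hx]
    exact (j_spec d d.2).2.2.1 x hx
  have h := DFunLike.congr_fun key y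
  exact mul_inv_eq_iff_eq_mul.mp h

/-- The number of fixed points of a function below `n`. -/
noncomputable def fixCount (f : ℕ → ℕ) (n : ℕ) : ℕ := countP (fun d => Nat.beq (f d) d) n

theorem sign_of_fun {n : ℕ} {π : Equiv.Perm (Fin n)} {f : ℕ → ℕ} (hf : ∀ d, (π d : ℕ) = f d) (hπ : π * π = 1)
    {m : ℕ} (hm : fixCount f n = m) : Equiv.Perm.sign π = (-1 : ℤˣ) ^ ((n - m) / 2) := by
  classical
  have e : ((Finset.range n).filter fun r => Nat.beq (f r) r = true) = (π.supportᶜ).map Fin.valEmbedding := by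
    ext r
    simp only [Finset.mem_filter, Finset.mem_range, Finset.mem_map, Finset.mem_compl, Equiv.Perm.mem_support, not_not,
      Fin.valEmbedding_apply]
    constructor
    · rintro ⟨hr, h⟩
      exact ⟨⟨r, hr⟩, Fin.ext ((hf _).trans (Nat.eq_of_beq_eq_true h)), rfl⟩
    · rintro ⟨d, hd, rfl⟩
      exact ⟨d.2, by rw [← hf d, hd]; exact Nat.beq_refl _⟩
  rw [sign_of_sq π hπ, ← hm, fixCount, countP_eq, e, Finset.card_map, Finset.card_compl, Fintype.card_fin]
  have : π.support.card ≤ n := (Finset.card_le_univ _).trans_eq (Fintype.card_fin _)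
  rw [show n - (n - π.support.card) = π.support.card by omega]

theorem gen_fix : ∀ x < 9, fixCount (fun d => Fi3510.table.act 9 d x) 3510 = 694 := by decide +kernel

theorem phi_fix : fixCount phi 3510 = 360 := by decide +kernel

theorem sign_hom (y : presFi22.Grp) : Equiv.Perm.sign (Fi3510.cert.hom Fi3510.hlt y) = 1 := by
  have key : Equiv.Perm.sign.comp (Fi3510.cert.hom Fi3510.hlt) = 1 := by
    refine MonoidHom.eq_of_eqOn_dense presFi22.gen_closure ?_
    rintro _ ⟨x, hx, rfl⟩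
    rw [MonoidHom.comp_apply, MonoidHom.one_apply,
      sign_of_fun (f := fun d => Fi3510.table.act 9 d x) (Fi3510.cert.hom_act Fi3510.hlt hid hx)
        (by rw [← map_mul, presFi22.σ_sq, map_one]) (gen_fix x hx)]
    exact Even.neg_one_pow ⟨704, rfl⟩
  exact DFunLike.congr_fun key y

theorem θA_outer : θA ∉ Cfsg.Inn presFi22.Grp := by
  rintro ⟨g, hg⟩
  set π := Fi3510.cert.hom Fi3510.hlt g
  set ψ := π⁻¹ * φ with hψ
  have hcom : ∀ y, ψ * Fi3510.cert.hom Fi3510.hlt y = Fi3510.cert.hom Fi3510.hlt y * ψ := by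
    intro y
    have e : θ y = g * y * g⁻¹ := (DFunLike.congr_fun hg y).symm
    rw [hψ, mul_assoc, φ_hom, e, map_mul, map_mul, map_inv]
    show π⁻¹ * (π * _ * π⁻¹ * φ) = _
    group
  haveI : Finite presFi22.Grp := Cfsg.Agent.S1696.upper.1
  have h0 : ψ ⟨0, Fi3510.cert.hn⟩ = ⟨0, Fi3510.cert.hn⟩ := by
    refine Fin.ext ((j_spec _ (ψ _).2).2.2.2.2 fun w hw => ?_)
    have hmem : ∃ v ∈ Fi3510.cert.hw, w = v.reverse := by
      have e : Fi3510.hwR = Fi3510.cert.hw.map List.reverse := by decide +kernel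
      rw [e, List.mem_map] at hw
      obtain ⟨v, hv, rfl⟩ := hw
      exact ⟨v, hv, rfl⟩
    obtain ⟨v, hv, rfl⟩ := hmem
    have hv' : ∀ x ∈ v, x < presFi22.k := Fi3510.hhw v hv
    rw [show runT Fi3510.table 9 v.reverse (ψ ⟨0, Fi3510.cert.hn⟩ : ℕ) =
      (Fi3510.cert.hom Fi3510.hlt (v.map presFi22.σ).prod (ψ ⟨0, Fi3510.cert.hn⟩) : ℕ) from
      (Fi3510.cert.hom_word_run' Fi3510.hlt hid v hv' _).symm, ← Equiv.Perm.mul_apply, ← hcom, Equiv.Perm.mul_apply,
      Fi3510.cert.sub_fix Fi3510.hlt hid Fi3510.hhw (h := (v.map presFi22.σ).prod) (Subgroup.subset_closure ⟨v, hv, rfl⟩)]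
  have h1 : ψ = 1 := by
    refine Equiv.ext fun d => ?_
    obtain ⟨u, hu⟩ := Fi3510.cert.exists_hom_zero Fi3510.hlt hid d
    rw [Equiv.Perm.one_apply, ← hu, ← Equiv.Perm.mul_apply, hcom, Equiv.Perm.mul_apply, h0]
  rw [hψ, inv_mul_eq_one] at h1
  have hs := sign_hom g
  have hphi : φ * φ = 1 := Equiv.ext fun d => Fin.ext (j_spec d d.2).1
  rw [show Fi3510.cert.hom Fi3510.hlt g = φ from h1, sign_of_fun (f := phi) (fun d => rfl) hphi phi_fix] at hs
  rw [show Fi3510.cert.T.n = 3510 from rfl, Odd.neg_one_pow (show Odd ((3510 - 360) / 2) from ⟨787, rfl⟩)] at hs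
  exact absurd hs (by decide)

theorem card_out : Nat.card (Cfsg.Out presFi22.Grp) = 2 := by
  haveI : Finite presFi22.Grp := Cfsg.Agent.S1696.upper.1
  haveI : Finite (MulAut presFi22.Grp) := Finite.of_injective (fun α => (α : presFi22.Grp → presFi22.Grp))
    DFunLike.coe_injective
  have hI : Nat.card (Cfsg.Inn presFi22.Grp) = 64561751654400 := by
    rw [← card_grp]
    refine (Nat.card_congr (MonoidHom.ofInjective (f := (MulAut.conj : presFi22.Grp →* MulAut presFi22.Grp)) ?_).toEquiv).symm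
    rw [injective_iff_map_eq_one]
    intro g hg
    refine central_one fun a _ => ?_
    have h := DFunLike.congr_fun hg (presFi22.σ a.1)
    simp only [MulAut.conj_apply, MulAut.one_apply] at h
    exact mul_inv_eq_iff_eq_mul.mp h
  show (Cfsg.Inn presFi22.Grp).index = 2
  have h := (Cfsg.Inn presFi22.Grp).card_mul_index
  have hle := card_aut_le
  rw [← h, hI, mul_comm 2] at hle
  have h2 : (Cfsg.Inn presFi22.Grp).index ≤ 2 := Nat.le_of_mul_le_mul_left hle (by norm_num)
  have h1 : (Cfsg.Inn presFi22.Grp).index ≠ 1 := fun e => θA_outer (by rw [Subgroup.index_eq_one.mp e]; trivial)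
  have h0 : (Cfsg.Inn presFi22.Grp).index ≠ 0 := Subgroup.index_ne_zero_of_finite
  omega

end CfsgLib.CosetEnum.Fi22Aut
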